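import Groth.Agent.FormAlg.PicSurj
import Groth.Agent.FormAlg.LeffPicX
import Groth.Agent.FormAlg.CIPic
import Groth.Agent.LeffAmple.Algebraize
import Groth.Agent.LeffAmple.Hyp
import Groth.Agent.SGA2Fin.Affine
import Groth.Agent.Easy4.Hyperplane

/-!
The effective Lefschetz condition on the punctured spectrum of a complete local ring.
-/

set_option autoImplicit false
set_option maxHeartbeats 1000000
set_option linter.style.haveILetI false
set_option backward.isDefEq.respectTransparency false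
set_option backward.isDefEq.respectTransparency.types false
universe u

namespace Groth.Agent.LeffPunct

open CategoryTheory CategoryTheory.Limits AlgebraicGeometry TopologicalSpace Opposite IsLocalRing
open Groth.Agent.PunctArt (RR HU')
open Groth.Agent.FormAlg
open Groth.Agent.Nakai (cl_tensor cl_pow cl_one iso_of_cl)

noncomputable section

attribute [local instance] Groth.Agent.Nakai.clMonoid

section Free

variable {A : Type u} [CommRing A] {U : (Spec (CommRingCat.of A)).Opens} {t : A} {m : ℕ} {Z : Scheme.{u}}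
  (j : Z ⟶ (↑U : Scheme.{u})) [IsClosedImmersion j]
  (hj : ∀ V : (↑U : Scheme.{u}).affineOpens, j.ker.ideal V = Ideal.span {W7Cech.secRing A V.1 t ^ m})

theorem nonempty_restrict_push {X Y : Scheme.{u}} (i : X ⟶ Y) (V : Y.Opens) (L M : X.Modules)
    (e : L.restrict (i ⁻¹ᵁ V).ι ≅ M.restrict (i ⁻¹ᵁ V).ι) :
    Nonempty ((Scheme.Modules.restrictFunctor V.ι).obj ((Scheme.Modules.pushforward i).obj L) ≅
      (Scheme.Modules.restrictFunctor V.ι).obj ((Scheme.Modules.pushforward i).obj M)) :=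
  ⟨(RelPCS.pushRestrIso i V).app L ≪≫ (Scheme.Modules.pushforward (i ∣_ V)).mapIso e ≪≫
    ((RelPCS.pushRestrIso i V).app M).symm⟩

include hj in
/-- Direct images of finite locally free modules on the thickened divisor. -/
theorem isFinLocFreeMod_push (L : Z.Modules) (hL : FlatMod.IsFinLocFree L) :
    Formal2.IsFinLocFreeMod (Ideal.span {t}) m ((Scheme.Modules.pushforward j).obj L) := by
  intro x
  by_cases hx : x ∈ Set.range j.base
  · obtain ⟨z, rfl⟩ := hx
    obtain ⟨W, r, hzW, ⟨e⟩⟩ := hL z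
    obtain ⟨S, hS, hSW⟩ := j.isClosedEmbedding.isInducing.isOpen_iff.1 W.2
    obtain ⟨V, hV⟩ : ∃ V : (↑U : Scheme.{u}).Opens, V.1 = S := ⟨⟨S, hS⟩, rfl⟩
    obtain rfl : W = j ⁻¹ᵁ V := TopologicalSpace.Opens.ext (hSW.symm.trans (by rw [← hV]; rfl))
    refine ⟨V, r, hzW, ?_⟩
    let F := FlatMod.freeMod (↑U : Scheme.{u}) r
    obtain ⟨α, -⟩ := exists_iso_modPow j hj F
    obtain ⟨e₀⟩ := nonempty_restrict_push j V L ((Scheme.Modules.pullback j).obj F)
      (e ≪≫ (DerPerf.pullFreeIso ((j ⁻¹ᵁ V).ι ≫ j) r).symm ≪≫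
        ((Scheme.Modules.pullbackComp (j ⁻¹ᵁ V).ι j).app F).symm ≪≫
        ((Scheme.Modules.restrictFunctorIsoPullback (j ⁻¹ᵁ V).ι).app _).symm)
    exact ⟨e₀ ≪≫ (Scheme.Modules.restrictFunctor V.ι).mapIso α.symm⟩
  · let V : (↑U : Scheme.{u}).Opens := ⟨(Set.range j.base)ᶜ, j.isClosedEmbedding.isClosed_range.isOpen_compl⟩
    obtain ⟨e₂⟩ := nonempty_modPow_free U t m 0
    have hz : IsZero ((RR U).obj (pwQ t m 0)) := Functor.map_isZero _ (ModuleCat.isZero_of_subsingleton _)
    have h1 : IsZero ((Scheme.Modules.restrictFunctor V.ι).obj ((Scheme.Modules.pushforward j).obj L)) := by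
      rw [IsZero.iff_id_eq_zero]
      refine Scheme.Modules.hom_ext _ _ fun W => ?_
      ext s
      refine QC.section_eq_of_locally (M := L) (U := j ⁻¹ᵁ (V.ι ''ᵁ W)) fun y hy => ?_
      obtain ⟨a, -, ha⟩ := hy
      exact absurd ⟨y, ha.symm⟩ a.2
    exact ⟨V, 0, hx, ⟨h1.iso (Functor.map_isZero _ (hz.of_iso e₂))⟩⟩

end Free

section Cartier

variable {A : Type u} [CommRing A] (U : (Spec (CommRingCat.of A)).Opens) (t : A) (hreg : IsSMulRegular A t)

local notation "J°" => divisorIdeal U t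

include hreg in
theorem isEffCartier_divisorIdeal : BlowUp.IsEffCartierIdeal J° := fun x => by
  obtain ⟨V, hV, hxV, -⟩ := exists_isAffineOpen_mem_and_subset (x := x) (U := ⊤) trivial
  refine ⟨⟨V, hV⟩, hxV, W7Cech.secRing A V t, ?_, divisorIdeal_ideal U t ⟨V, hV⟩⟩
  haveI := mono_smulMod_structure U t hreg
  have hinj := QC.app_injective_of_mono (Formal.smulMod A (Coh.structureModule (↑U : Scheme.{u})) t) V
  refine mem_nonZeroDivisors_iff_right.2 fun c hc => hinj ?_
  rw [map_zero]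
  refine Eq.trans ?_ hc
  exact mul_comm (G := Γ((↑U : Scheme.{u}), V)) (W7Cech.secRing A V t) c

include hreg in
theorem nonempty_idealMod_iso : Nonempty (ClSub.idealMod (J° ^ (0 + 1)) ≅ Coh.structureModule (↑U : Scheme.{u})) := by
  obtain ⟨κ, hκ⟩ := exists_quotMod_iso (divisorIdeal_ideal U t) 0
  let f := Formal.smulMod A (Coh.structureModule (↑U : Scheme.{u})) t
  let π := Formal.modPowπ (Ideal.span {t}) (0 + 1) (Coh.structureModule (↑U : Scheme.{u}))
  haveI : Mono f := mono_smulMod_structure U t hreg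
  have hw : f ≫ π = 0 :=
    W7Exist.smulMod_π _ (0 + 1) _ _ (by rw [zero_add, pow_one]; exact Ideal.mem_span_singleton_self t)
  haveI : Epi π := by unfold π Formal.modPowπ; infer_instance
  have key : ∀ {P : (↑U : Scheme.{u}).Modules} (q : Coh.structureModule (↑U : Scheme.{u}) ⟶ P), f ≫ q = 0 →
      ∃ d, π ≫ d = q := fun q hq => W7Exist.exists_desc_modPow (Ideal.span {t}) (0 + 1) q fun a ha => by
    rw [zero_add, pow_one, Ideal.mem_span_singleton'] at ha
    obtain ⟨c, rfl⟩ := ha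
    rw [mul_comm c t, ← W7Exist.smulMod_comp, Category.assoc, hq, comp_zero]
  let hc : IsColimit (CokernelCofork.ofπ π hw) := CokernelCofork.IsColimit.ofπ _ _
    (fun q hq => (key q hq).choose) (fun q hq => (key q hq).choose_spec)
    (fun q hq d hd => (cancel_epi π).1 (hd.trans (key q hq).choose_spec.symm))
  let hk := Abelian.monoIsKernelOfCokernel _ hc
  exact ⟨kernelIsoOfEq hκ.symm ≪≫ kernelCompMono π κ.hom ≪≫
    (kernelIsKernel π).conePointUniqueUpToIso hk⟩

include hreg in
theorem cl_idealMod : PicF.cl (ClSub.idealMod J°) = 1 := by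
  obtain ⟨e⟩ := nonempty_idealMod_iso U t hreg
  have h := (PicGrp.cl_eq_cl_iff _ _).2 ⟨e⟩
  rwa [cl_one, zero_add, pow_one] at h

variable [IsNoetherianRing A] {𝔞 : Ideal A}

include hreg in
/-- Vanishing of the cohomology of the kernels of the transition maps. -/
theorem subsingleton_kernel (hU : U = EGA4.openCompl A 𝔞) (q : ℕ)
    (h : Subsingleton (LocCoh.H 𝔞 (q + 2) (A ⧸ Ideal.span {t}))) (k : ℕ) :
    Subsingleton (Coh.HH (↑U : Scheme.{u}) (kernel (Lef.quotMap (Lef.pow_succ_le J° k))) (q + 1)) := by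
  subst hU
  obtain ⟨e⟩ := LeffAmple.kernel_quotMap (isEffCartier_divisorIdeal _ t hreg) k
  refine CohQC.hh_subsingleton_of_iso e.symm (q + 1) ?_
  obtain ⟨θ⟩ := iso_of_cl (A := CohB1.tensorPow (ClSub.idealMod (divisorIdeal (EGA4.openCompl A 𝔞) t)) (k + 1))
    (B := Coh.structureModule _) (by rw [cl_pow, cl_idealMod _ t hreg, one_pow, cl_one])
  obtain ⟨β⟩ := nonempty_push_structure (t := t) (m := 1) (divisorIdeal (EGA4.openCompl A 𝔞) t).subschemeι
    (fun V => by rw [Scheme.IdealSheafData.ker_subschemeι, divisorIdeal_ideal, pow_one])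
  refine CohQC.hh_subsingleton_of_iso (PicGrp.tensorModIso θ (Iso.refl _) ≪≫ TMul.leftUnitIso _ ≪≫ β).symm (q + 1) ?_
  obtain ⟨e'⟩ := nonempty_linearEquiv 𝔞 q (pwQ t 1 1)
  let i : pwQ t 1 1 ≅ ModuleCat.of A (A ⧸ Ideal.span {t}) :=
    ((LinearEquiv.funUnique (Fin 1) A _).trans (Submodule.quotEquivOfEq _ _ (by rw [pow_one]))).toModuleIso
  haveI : Subsingleton ↑((localCohomology 𝔞 (q + 2)).obj (ModuleCat.of A (A ⧸ Ideal.span {t}))) := h
  haveI : Subsingleton ↑((localCohomology 𝔞 (q + 2)).obj (pwQ t 1 1)) :=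
    ((localCohomology 𝔞 (q + 2)).mapIso i).toLinearEquiv.toEquiv.subsingleton
  exact e'.toEquiv.subsingleton

end Cartier

section Local

variable {A : Type u} [CommRing A] [IsLocalRing A] [IsNoetherianRing A] (t : A)

theorem depth_quot_atPrime (hreg : IsSMulRegular A t) (p : Ideal A) [p.IsPrime] (htp : t ∈ p) {k : ℕ}
    (h : ((k + 1 : ℕ) : ℕ∞) ≤ LocCoh.depth (Localization.AtPrime p) (Localization.AtPrime p)) :
    (k : ℕ∞) ≤ LocCoh.depth (Localization.AtPrime p) (LocalizedModule p.primeCompl (A ⧸ Ideal.span {t})) := by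
  obtain ⟨d, e, -, he, -, he'⟩ := Easy4.Hyperplane.at_prime_mem (M := A) t hreg p htp (by
    rw [Module.support_eq_zeroLocus, Module.annihilator_eq_bot.2 inferInstance]
    exact fun x hx => by rw [SetLike.mem_coe, Ideal.mem_bot] at hx; subst hx; exact zero_mem _)
  have h1 : LocCoh.depth (Localization.AtPrime p) (Localization.AtPrime p) =
      LocCoh.depth (Localization.AtPrime p) (LocalizedModule p.primeCompl A) :=
    LocH.depth_eq_of_isLocalizedModule A p (Localization.AtPrime p) (fun x => IsLocalization.map_units _ x)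
      (fun a => by obtain ⟨⟨r, s⟩, hs⟩ := IsLocalization.surj p.primeCompl a; exact ⟨r, s, hs⟩)
      (Localization.AtPrime p) (Algebra.linearMap A (Localization.AtPrime p))
  rw [h1, he'] at h
  let g : QuotSMulTop t A ≃ₗ[A] A ⧸ Ideal.span {t} :=
    Submodule.quotEquivOfEq _ _ (by rw [← Submodule.ideal_span_singleton_smul, smul_eq_mul, Ideal.mul_top])
  have h2 : LocCoh.depth (Localization.AtPrime p) (LocalizedModule p.primeCompl (A ⧸ Ideal.span {t})) =
      LocCoh.depth (Localization.AtPrime p) (LocalizedModule p.primeCompl (QuotSMulTop t A)) :=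
    LocH.depth_eq_of_isLocalizedModule (QuotSMulTop t A) p (Localization.AtPrime p)
      (fun x => IsLocalization.map_units _ x)
      (fun a => by obtain ⟨⟨r, s⟩, hs⟩ := IsLocalization.surj p.primeCompl a; exact ⟨r, s, hs⟩)
      (LocalizedModule p.primeCompl (A ⧸ Ideal.span {t}))
      ((LocalizedModule.mkLinearMap p.primeCompl (A ⧸ Ideal.span {t})).comp g.toLinearMap)
  rw [h2, he]
  have hke : k + 1 ≤ e + 1 := by exact_mod_cast h
  exact_mod_cast Nat.le_of_succ_le_succ hke

/-- The local cohomology of the divisor is finite in degrees at most two. -/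
theorem finite_H {R : Type u} [CommRing R] [IsRegularRing R] (π : R →+* A) (hπ : Function.Surjective π)
    (hreg : IsSMulRegular A t)
    (h3 : ∀ p : PrimeSpectrum A, t ∈ p.asIdeal → ringKrullDim (A ⧸ p.asIdeal) = 1 →
      (3 : ℕ∞) ≤ LocCoh.depth (Localization.AtPrime p.asIdeal) (Localization.AtPrime p.asIdeal))
    (i : ℕ) (hi : i ≤ 2) : Module.Finite A (LocCoh.H (maximalIdeal A) i (A ⧸ Ideal.span {t})) := by
  refine SGA2Fin.finite_of_le_depth π hπ _ _ (fun p hp h1 => ?_) i hi
  have hdim : ringKrullDim (A ⧸ p.asIdeal) = 1 := by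
    rw [← SGA2Fin.relCodim_maximalIdeal, h1]; rfl
  by_cases htp : t ∈ p.asIdeal
  · exact depth_quot_atPrime t hreg _ htp (h3 p htp hdim)
  · haveI : Subsingleton (LocalizedModule p.asIdeal.primeCompl (A ⧸ Ideal.span {t})) :=
      LocalizedModule.subsingleton_iff.2 fun x => ⟨t, htp, by
        obtain ⟨a, rfl⟩ := Ideal.Quotient.mk_surjective x
        rw [Algebra.smul_def, Ideal.Quotient.algebraMap_eq, ← map_mul, Ideal.Quotient.eq_zero_iff_mem]
        exact Ideal.mul_mem_right _ _ (Ideal.mem_span_singleton_self t)⟩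
    rw [LocCoh.depth, LocCoh.idealDepth, if_pos (Subsingleton.elim _ _)]
    exact le_top

variable [IsAdicComplete (Ideal.span {t}) A]

theorem leffCond_punctured {R : Type u} [CommRing R] [IsRegularRing R] (π : R →+* A) (hπ : Function.Surjective π)
    (ht : t ∈ maximalIdeal A) (hreg : IsSMulRegular A t)
    (h2 : ∀ p : PrimeSpectrum A, ringKrullDim (A ⧸ p.asIdeal) = 1 →
      (2 : ℕ∞) ≤ LocCoh.depth (Localization.AtPrime p.asIdeal) (Localization.AtPrime p.asIdeal))
    (h3 : ∀ p : PrimeSpectrum A, t ∈ p.asIdeal → ringKrullDim (A ⧸ p.asIdeal) = 1 →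
      (3 : ℕ∞) ≤ LocCoh.depth (Localization.AtPrime p.asIdeal) (Localization.AtPrime p.asIdeal)) :
    LefX.LeffCond (↑(FEt.puncturedSpec A) : Scheme.{u}) (divisorIdeal (FEt.puncturedSpec A) t) := by
  refine ⟨lefCond_punctured π hπ t ht hreg h2, ?_⟩
  rw [puncturedSpec_eq A]
  intro 𝔐 h𝔐
  let U := EGA4.openCompl A (maximalIdeal A)
  have htn : t ∈ nonZeroDivisors A := mem_nonZeroDivisors_iff_right.2 fun c hc =>
    hreg (show t • c = t • 0 by rw [smul_zero, smul_eq_mul, mul_comm]; exact hc)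
  have hcoh : 𝔐.IsCoh := fun n => ⟨LocFree.isQCoh_of_isFinLocFree (h𝔐 n), LocFree.isFT_of_isFinLocFree (h𝔐 n)⟩
  have hG := isCohFormal_sysFun (divisorIdeal_ideal U t) 𝔐 hcoh
  have hfree : ∀ n : ℕ, Formal2.IsFinLocFreeMod (Ideal.span {t}) (n + 1) ((sysFun 𝔐).obj (op n)) := fun n =>
    isFinLocFreeMod_push (FSch.completionToX (↑U : Scheme.{u}) (divisorIdeal U t) n)
      (ker_completionToX (divisorIdeal_ideal U t) n) (𝔐.F n) (h𝔐 n)
  obtain ⟨F, hF, ⟨α⟩⟩ := algebraize_free (maximalIdeal A) t htn (finite_H t π hπ hreg h3 1 one_le_two)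
    (finite_H t π hπ hreg h3 2 le_rfl) (sysFun 𝔐) hG hfree
  obtain ⟨e⟩ := nonempty_completionMod_iso (divisorIdeal_ideal U t) 𝔐 F α
  haveI : NoetherianSpace (Spec (CommRingCat.of A)) := inferInstanceAs (NoetherianSpace (PrimeSpectrum A))
  haveI : IsLocallyNoetherian (↑U : Scheme.{u}) := LocallyOfFiniteType.isLocallyNoetherian U.ι
  exact LeffAmple.exists_nhd_of_coh (isEffCartier_divisorIdeal U t hreg) 𝔐 h𝔐 hF e

omit [IsAdicComplete (Ideal.span {t}) A]

/-- Parafactoriality at the points outside a neighbourhood of the divisor. -/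
theorem parafactorial_outside (ht : t ∈ maximalIdeal A)
    (he : ∀ p : PrimeSpectrum A, t ∉ p.asIdeal → ringKrullDim (A ⧸ p.asIdeal) = 1 →
      ParaF.IsParafactorialLocalRing (Localization.AtPrime p.asIdeal))
    (V : (↑(FEt.puncturedSpec A) : Scheme.{u}).Opens)
    (hV : ((divisorIdeal (FEt.puncturedSpec A) t).support : Set (↑(FEt.puncturedSpec A) : Scheme.{u})) ⊆ (V : Set _))
    (x : (↑(FEt.puncturedSpec A) : Scheme.{u})) (hx : x ∉ V) :
    ParaF.IsParafactorialLocalRing ((↑(FEt.puncturedSpec A) : Scheme.{u}).presheaf.stalk x) := by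
  haveI : NoetherianSpace (Spec (CommRingCat.of A)) := inferInstanceAs (NoetherianSpace (PrimeSpectrum A))
  haveI : IsLocallyNoetherian (↑(FEt.puncturedSpec A) : Scheme.{u}) :=
    LocallyOfFiniteType.isLocallyNoetherian (FEt.puncturedSpec A).ι
  let p : PrimeSpectrum A := x.1
  have hp : p ≠ closedPoint A := x.2
  have htp : t ∉ p.asIdeal := fun h => hx (hV (mem_support_divisorIdeal _ t x h))
  have hmin : ∀ r : PrimeSpectrum A, p ≤ r → t ∈ r.asIdeal → r = closedPoint A := fun r hr htr => by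
    by_contra hrm
    let y : (↑(FEt.puncturedSpec A) : Scheme.{u}) := ⟨r, hrm⟩
    have hs : x ⤳ y := (Topology.IsInducing.subtypeVal.specializes_iff).1 ((PrimeSpectrum.le_iff_specializes _ _).1 hr)
    exact hx (hs.mem_open V.2 (hV (mem_support_divisorIdeal _ t y htr)))
  have hdim := ringKrullDim_quotient_eq_one p hp fun q hq => eq_or_eq_of_meet p q hq t ht hmin
  obtain ⟨ε⟩ := nonempty_stalk_equiv (FEt.puncturedSpec A) x
  exact isParafactorial_congr ε.symm (he p htp hdim)

theorem subsingleton_H_quot (ht : t ∈ maximalIdeal A) {d : ℕ} [IsLocalRing (A ⧸ Ideal.span {t})]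
    (hb : (d : ℕ∞) ≤ LocCoh.depth (A ⧸ Ideal.span {t}) (A ⧸ Ideal.span {t})) (i : ℕ) (hi : i < d) :
    Subsingleton (LocCoh.H (maximalIdeal A) i (A ⧸ Ideal.span {t})) :=
  (LocH.le_idealDepth_iff (maximalIdeal A) (A ⧸ Ideal.span {t}) d).1
    (hb.trans_eq (FlatDepth.depth_quotient_ring (Ideal.span {t}) (A ⧸ Ideal.span {t}))) i hi

theorem depth_le_of_quot (ht : t ∈ maximalIdeal A) (hreg : IsSMulRegular A t) [IsLocalRing (A ⧸ Ideal.span {t})]
    (hb : (2 : ℕ∞) ≤ LocCoh.depth (A ⧸ Ideal.span {t}) (A ⧸ Ideal.span {t})) :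
    (2 : ℕ∞) ≤ LocCoh.depth A A := by
  have h := hb.trans_eq (FlatDepth.depth_quotient_ring (Ideal.span {t}) (A ⧸ Ideal.span {t}))
  have hm := maximalIdeal_le_jacobson (Module.annihilator A A)
  have hIM : maximalIdeal A • (⊤ : Submodule A A) ≠ ⊤ :=
    (Submodule.top_ne_ideal_smul_of_le_jacobson_annihilator hm).symm
  have h1 := S0320.result A (maximalIdeal A) A hIM t ht hreg
  let g : QuotSMulTop t A ≃ₗ[A] A ⧸ Ideal.span {t} :=
    Submodule.quotEquivOfEq _ _ (by rw [← Submodule.ideal_span_singleton_smul, smul_eq_mul, Ideal.mul_top])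
  have h2 : LocCoh.depth A (QuotSMulTop t A) = LocCoh.depth A (A ⧸ Ideal.span {t}) := LocH.idealDepth_congr g _
  change LocCoh.depth A (QuotSMulTop t A) + 1 = LocCoh.depth A A at h1
  rw [← h1, h2]
  exact h.trans le_self_add

/-- The thickening of level zero is the punctured spectrum of the quotient. -/
theorem picTrivial_iff (ht : t ∈ maximalIdeal A) [IsLocalRing (A ⧸ Ideal.span {t})] :
    ParaF.PicTrivial (divisorIdeal (FEt.puncturedSpec A) t).subscheme ↔
      ParaF.PicTrivial (↑(FEt.puncturedSpec (A ⧸ Ideal.span {t})) : Scheme.{u}) := by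
  let U := FEt.puncturedSpec A
  let s := Formal2.specQuotMap A t
  haveI : IsClosedImmersion s := IsClosedImmersion.spec_of_surjective _ Ideal.Quotient.mk_surjective
  let g := s ∣_ U
  haveI : IsClosedImmersion g :=
    MorphismProperty.of_isPullback (P := @IsClosedImmersion) (isPullback_morphismRestrict s U).flip inferInstance
  let j₀ := (divisorIdeal U t).subschemeι
  have hker : g.ker = j₀.ker := by
    refine Scheme.IdealSheafData.ext (funext fun V => ?_)
    rw [Scheme.IdealSheafData.ker_subschemeι, divisorIdeal_ideal, Scheme.Hom.ker_apply,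
      W7Alg.ker_app_baseChange (Ideal.Quotient.mk (Ideal.span {t})) Ideal.Quotient.mk_surjective
        (isPullback_morphismRestrict s U) V, Ideal.mk_ker, Ideal.map_span, Set.image_singleton]
  let θ := IsClosedImmersion.lift j₀ g hker.ge
  have hθ : θ ≫ j₀ = g := IsClosedImmersion.lift_fac _ _ _
  haveI : IsIso θ := IsClosedImmersion.isIso_of_ker_eq g j₀ θ hθ hker
  have hpre : s ⁻¹ᵁ U = FEt.puncturedSpec (A ⧸ Ideal.span {t}) := by
    haveI : IsLocalHom (Ideal.Quotient.mk (Ideal.span {t})) := IsLocalHom.of_surjective _ Ideal.Quotient.mk_surjective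
    exact preimage_punctured _ (by
      rw [IsLocalRing.map_maximalIdeal_of_surjective _ Ideal.Quotient.mk_surjective]; exact Ideal.le_radical)
  refine ⟨fun h => ?_, fun h => picTrivial_of_isIso (inv θ) ?_⟩
  · have h' : ParaF.PicTrivial (↑(s ⁻¹ᵁ U) : Scheme.{u}) := picTrivial_of_isIso θ h
    rwa [hpre] at h'
  · show ParaF.PicTrivial (↑(s ⁻¹ᵁ U) : Scheme.{u})
    rw [hpre]
    exact h

end Local

end

end Groth.Agent.LeffPunct
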